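import Cfsg.Agent.Omega.ML.ExLow.NumX
import Cfsg.Agent.Omega.ML.Ex.Known

/-!
# K-list 'exact + low': the numerical criterion over `InX` (helper102)

* `perfect` : `K` is perfect;  `mv` : `K` moves `M`;
* **`deadX : DeadX fun S _ => NX S`**.
-/

set_option autoImplicit false

universe u v w

namespace Cfsg.Agent.Omega.ML.ExLow.Dead

open Subgroup Cfsg Cfsg.Agent.Omega.NOThree.NoOver Cfsg.Agent.ClassTwoFusion.Quad
  Cfsg.Agent.Omega.ML.Ex Cfsg.Agent.Omega.ML.ExLow.NumX

section main

variable {H : Type u} [Group H] {M : Type v} [Group M] [MulDistribMulAction H M] {K T A : Subgroup H}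

theorem perfect (h : InX H M K T A) : _root_.commutator K = ⊤ := by
  have hs := h.simple
  rcases hs.eq_bot_or_eq_top_of_normal (_root_.commutator K) inferInstance with h1 | h1
  · exfalso
    apply h.not_comm
    intro a b
    have h2 : a * b * a⁻¹ * b⁻¹ ∈ _root_.commutator K := by
      rw [_root_.commutator_def]
      exact commutator_mem_commutator (mem_top a) (mem_top b)
    rw [h1, mem_bot, mul_inv_eq_one, mul_inv_eq_iff_eq_mul] at h2
    exact h2
  · exact h1

theorem mv [Finite H] (h : InX H M K T A) : Mv K M := by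
  have hs := h.simple
  obtain ⟨x, hx⟩ := exists_ne (1 : K)
  by_contra hcon
  exact hx (Subtype.ext (h.faith x fun m => not_mv hcon x.2 m))

theorem card_le_fo [Finite H] [Finite M] (h : InX H M K T A) : Nat.card M ≤ fo M A := by
  rw [fo, ← h.exact, mul_comm, card_mul_index]

/-- **The numerical criterion over `InX`.** -/
theorem false_of [Finite H] [Finite M] (h : InX H M K T A) (hS : NX.{u, v} K) : False :=
  NumX.false_of h.norm h.simple (perfect h) h.cen h.sq (mv h) h.el h.A_ne_bot (card_le_fo h) hS

end main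

/-- **All numerical rows.** -/
theorem deadX : DeadX.{u, v} fun S _ => NX.{u, v} S :=
  fun _ _ _ _ _ _ _ _ _ _ h hS => false_of h hS

/-- a class of groups with `NX` is dead -/
theorem deadX_of {𝒮 : ∀ (S : Type u) [Group S], Prop} (h : ∀ (S : Type u) [Group S], 𝒮 S → NX.{u, v} S) :
    DeadX.{u, v} 𝒮 :=
  deadX.mono h

end Cfsg.Agent.Omega.ML.ExLow.Dead
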