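import Cfsg.Agent.Omega.ML.ExLow.NumX
import Cfsg.Agent.Omega.ML.GTwoTorus
import Cfsg.Agent.Omega.ML.RowGTwoFive

/-!
# K-list 'exact + low', numerical rows: the exceptional groups over fields of odd order (helper102)

* `OutB.of_outRk` : `OutRk S c → OutB S c`;
* `exceptional` : `G₂(3)`, or `NX` (`G₂(q)`, `q ≥ 5`, `F₄`, `E₆`, `E₇`, `E₈`, `q` odd);
* `twisted` : `²E₆(q)`, `³D₄(q)`, `q` odd.
-/

set_option autoImplicit false

universe u v w

namespace Cfsg.Agent.Omega.ML.ExLow.XExc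

open Subgroup Cfsg Cfsg.Lie Cfsg.Agent.Omega.Lie Cfsg.Agent.Omega.TwoF Cfsg.Agent.Omega.TwoF.Out Cfsg.Agent.Omega.ML.Num
  Cfsg.Agent.Omega.ML.ExLow.NumX

theorem outB_of_outRk {S : Type w} [Group S] {c : ℕ} (h : OutRk S c) : OutB.{u} S c := by
  intro X _ _ N _ ⟨f⟩ hc A hA hX
  have hinj : Function.Injective (MulAut.conjNormal : X →* MulAut N) := by
    rw [← MonoidHom.ker_eq_bot_iff, eq_bot_iff, ← hc]
    intro g hg
    rw [mem_centralizer_iff]
    intro n hn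
    have h1 := congrArg (fun φ : MulAut N => (φ ⟨n, hn⟩ : X)) (MonoidHom.mem_ker.1 hg)
    simp only [MulAut.conjNormal_apply, MulAut.one_apply] at h1
    exact (mul_inv_eq_iff_eq_mul.1 h1).symm
  let j : X →* MulAut S := (MulAut.congr f).toMonoidHom.comp MulAut.conjNormal
  have hj : Function.Injective j := (MulAut.congr f).injective.comp hinj
  have hN : ∀ n : N, j (n : X) = MulAut.conj (f n) := by
    intro n
    ext s
    show f (MulAut.conjNormal (n : X) (f.symm s)) = f n * s * (f n)⁻¹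
    have h1 : MulAut.conjNormal (n : X) (f.symm s) = n * f.symm s * n⁻¹ :=
      Subtype.ext (by simp [MulAut.conjNormal_apply])
    rw [h1, map_mul, map_mul, map_inv, f.apply_symm_apply]
  have h1 := h (A.map j) (by
    rintro _ ⟨a, ha, rfl⟩
    rw [← map_mul, hA a ha, map_one])
  have h2 : A.map j ⊓ (MulAut.conj : S →* MulAut S).range = (A ⊓ N).map j := by
    ext φ
    constructor
    · rintro ⟨⟨a, ha, rfl⟩, ⟨s, hs⟩⟩
      refine ⟨a, ⟨ha, ?_⟩, rfl⟩
      have h3 : j a = j (f.symm s : N) := by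
        rw [hN, f.apply_symm_apply]
        exact hs.symm
      have h4 := hj h3
      rw [h4]
      exact (f.symm s).2
    · rintro ⟨a, ⟨ha, haN⟩, rfl⟩
      exact ⟨⟨a, ha, rfl⟩, ⟨f ⟨a, haN⟩, (hN ⟨a, haN⟩).symm⟩⟩
  rw [h2, card_map_of_injective hj, card_map_of_injective hj] at h1
  have h5 : N.index = N.relIndex A := by
    have h6 := relIndex_sup_right A N
    rw [sup_comm, hX, relIndex_top_right] at h6
    exact h6
  have h6 : Nat.card (A ⊓ N : Subgroup X) * N.relIndex A = Nat.card A := by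
    rw [inf_comm]
    exact (congrArg (· * _) (Nat.card_congr (Subgroup.subgroupOfEquivOfLe (inf_le_right : N ⊓ A ≤ A)).toEquiv.symm)).trans
      (by rw [inf_subgroupOf_right]; exact card_mul_index _)
  rw [h5]
  refine Nat.le_of_mul_le_mul_left (c := Nat.card (A ⊓ N : Subgroup X)) ?_ Nat.card_pos
  rw [h6, mul_comm]
  exact h1

theorem rkCongr {S : Type*} [Group S] {K : Type u} [Group K] (e : S ≃* K) {n b N : ℕ}
    (h1 : Heis.LB.{_, u, v} S n) (h2 : Rk.RK.{u} S b) (h4 : Nat.card S ≤ 2 ^ N) (h5 : N + b < n) :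
    NX.{u, v} K :=
  NX.of_rk (h1.congr e) (h2.of_equiv e) (by rwa [← Nat.card_congr e.toEquiv]) h5

/-- the inequality for the bounds `q ^ c` and `2 q ^ (k + 1)` -/
theorem num {q c a k : ℕ} (hq : 3 ≤ q) (hc : c + 2 * a ≤ 2 * 3 ^ k) (ha : 1 ≤ a) :
    c * (q - 1) + a < 2 * q ^ (k + 1) := by
  obtain ⟨m, rfl⟩ : ∃ m, q = m + 3 := ⟨q - 3, by omega⟩
  have h0 : m + 3 - 1 = m + 2 := by omega
  have h1 : (3 : ℕ) ^ k ≤ (m + 3) ^ k := Nat.pow_le_pow_left (by omega) k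
  rw [h0, pow_succ]
  have h2 : c * (m + 2) + a < (c + 2 * a) * (m + 2) := by nlinarith
  have h3 : (c + 2 * a) * (m + 2) ≤ 2 * (m + 3) ^ k * (m + 2) := Nat.mul_le_mul_right _ (by omega)
  have h4 : 2 * (m + 3) ^ k * (m + 2) ≤ 2 * ((m + 3) ^ k * (m + 3)) := by
    rw [mul_assoc]
    exact Nat.mul_le_mul_left _ (Nat.mul_le_mul_left _ (by omega))
  omega

section chev

variable {F : Type w} [Field F] [Finite F] (h2 : (2 : F) ≠ 0)

include h2

/-- from `LB (2 q ^ (k + 1))`, `RK a`, `|S| ≤ q ^ c` -/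
theorem num_of {S : Type w} [Group S] {c a k : ℕ} (hn : Nat.card S ≤ Nat.card F ^ c)
    (hlb : Heis.LB.{w, u, v} S (2 * Nat.card F ^ (k + 1))) (hrk : TwoF.RK S a) (ha : 1 ≤ a)
    (hc : c + 2 * a ≤ 2 * 3 ^ k) {S' : Type u} [Group S'] (e : S ≃* S') : NX.{u, v} S' :=
  rkCongr e hlb (OddExcNum.rk_of_rk hrk)
    (hn.trans (OddExcNum.pow_le_two_pow (by have := RowExc.three_le h2; omega))) (num (RowExc.three_le h2) hc ha)

theorem f4 {S : Type u} [Group S] (e : chevF4.group F ≃* S) : NX.{u, v} S :=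
  have := (Cfsg.Agent.S1054.result (F := F) chevF4 (by simp)).1
  num_of h2 (RowExc.card_F4 F) (F4Odd.lb F h2) (RkChev.rk_f4 F h2) (by norm_num) (by norm_num) e

theorem e6 {S : Type u} [Group S] (e : chevE6.group F ≃* S) : NX.{u, v} S :=
  have := (Cfsg.Agent.S1054.result (F := F) chevE6 (by simp)).1
  num_of h2 (RowExc.card_E6 F) (E6Odd.lb F h2) (RkChev.rk_e6 F h2) (by norm_num) (by norm_num) e

theorem e7 {S : Type u} [Group S] (e : chevE7.group F ≃* S) : NX.{u, v} S :=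
  have := (Cfsg.Agent.S1054.result (F := F) chevE7 (by simp)).1
  num_of h2 (RowExc.card_E7 F) (E7Odd.lb F h2) (RkChev.rk_e7 F h2) (by norm_num) (by norm_num) e

theorem e8 {S : Type u} [Group S] (e : chevE8.group F ≃* S) : NX.{u, v} S :=
  have := (Cfsg.Agent.S1054.result (F := F) chevE8 (by simp)).1
  num_of h2 (RowExc.card_E8 F) (E8Odd.lb F h2) (RkChev.rk_e8 F h2) (by norm_num) (by norm_num) e

end chev

section twisted

variable {F : Type w} [Field F] [Fintype F] {q : ℕ} (hq : IsPrimePow q) (h2 : (2 : F) ≠ 0)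

include hq h2

theorem twE6 (hF : Fintype.card F = q ^ 2) {S : Type u} [Group S] (e : twistedE6 F q ≃* S) : NX.{u, v} S :=
  rkCongr e (TwE6Odd.lb.{w, u, v} hq hF h2) (OddExcNum.rk_of_rk (RkTwE6.rk_88 hq hF h2))
    ((RowTwE6.card_le hq hF).trans (OddExcNum.pow_le_two_pow (by have := hq.two_le; omega)))
    (num (k := 6) (OddExcNum.three_le hq h2 hF) (by norm_num) (by norm_num))

omit [Field F] [Fintype F] hq h2 in
theorem num_D4 (h3 : 3 ≤ q) : 29 * (q - 1) + 32 < 2 * q ^ 4 := by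
  obtain ⟨m, rfl⟩ : ∃ m, q = m + 3 := ⟨q - 3, by omega⟩
  have h0 : m + 3 - 1 = m + 2 := by omega
  rw [h0]
  nlinarith [Nat.zero_le (m ^ 4), Nat.zero_le (m ^ 3), Nat.zero_le (m ^ 2)]

theorem twD4 (hF : Fintype.card F = q ^ 3) {S : Type u} [Group S] (e : twistedD4 F q ≃* S) : NX.{u, v} S :=
  rkCongr (S := ↥(twistedD4 F q)) e (OddExcNum.lb_D4 hq h2 hF)
    (OddExcNum.rk_of_rk (TwD4Rk.rk (K := F) hq hF h2 inferInstance (Cfsg.Agent.S1071.result (K := F) hq hF).1))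
    ((OddExcNum.card_D4 hq h2 hF).trans (OddExcNum.pow_le_two_pow (by have := hq.two_le; omega)))
    (num_D4 (OddExcNum.three_le hq h2 hF))

end twisted

/-! ### `G₂(q)` -/

/-- **`G₂(q)`, `q ≥ 5` odd.** -/
theorem gTwo {K : Type u} [Group K] {F : Type} [Field F] [Fintype F] {p : ℕ} [Fact p.Prime] [CharP F p]
    (hp2 : p ≠ 2) (h5 : 5 ≤ Fintype.card F) (e : K ≃* ↥(chevG2.group F)) : NX.{u, v} K := by
  have h2 : (2 : F) ≠ 0 := RowGTwo.two_ne (p := p) Fact.out hp2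
  have hs := (RowGTwo.simple' h2).1
  have hlb := GTwoTorus.lb.{0, u, v} (F := F) (p := p) hp2
  rw [Nat.card_eq_fintype_card] at hlb
  obtain ⟨hr6, hr4⟩ := RowGTwo.rk (F := F) (p := p) Fact.out hp2
  obtain ⟨k, hk⟩ := RowGTwo.odd_card (F := F) (p := p) hp2
  by_cases h9 : 9 ≤ Fintype.card F
  · refine rkCongr e.symm (N := 7 * Fintype.card F) hlb (OddExcNum.rk_of_rk hr6) ?_ ?_
    · refine GTwoTorus.card_le.trans ?_
      calc Fintype.card F ^ 14 = (Fintype.card F ^ 2) ^ 7 := by rw [← pow_mul]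
        _ ≤ (2 ^ Fintype.card F) ^ 7 := Nat.pow_le_pow_left (GTwoTorus.sq_le_two_pow (by omega)) 7
        _ = 2 ^ (7 * Fintype.card F) := by rw [← pow_mul, mul_comm]
    · obtain ⟨m, hm⟩ : ∃ m, Fintype.card F = m + 9 := ⟨Fintype.card F - 9, by omega⟩
      rw [hm]
      have e1 : m + 9 - 1 = m + 8 := by omega
      rw [e1]
      nlinarith
  by_cases h7 : Fintype.card F = 7
  · have hσ : ∀ σ : RingAut F, σ = 1 := by
      rcases RowGTwo.card_cases (F := F) (p := p) hp2 with h | h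
      · exact h
      · exact absurd h h9
    have ho := outB_of_outRk.{u} ((GTwoOut.outRk (F := F) h2).2 hσ)
    refine ⟨_, hlb.congr e.symm, (CardB.of_out (S := ↥(chevG2.group F)) ho ?_).congr e.symm⟩
    rw [Cfsg.Agent.S1059.result (F := F) rfl, h7]
    norm_num
  · have h5' : Fintype.card F = 5 := by omega
    obtain rfl : p = 5 := by
      have h6 : ((5 : ℕ) : F) = 0 := by
        rw [← h5']
        exact FiniteField.cast_card_eq_zero F
      rw [CharP.cast_eq_zero_iff F p] at h6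
      exact (Nat.prime_dvd_prime_iff_eq Fact.out (by norm_num)).1 h6
    have hlb5 := RowGTwoFive.lb.{0, u, v} (F := F) (by rw [Nat.card_eq_fintype_card, h5'])
    rw [Nat.card_eq_fintype_card, h5'] at hlb5
    refine rkCongr e.symm (N := 40) hlb5 (OddExcNum.rk_of_rk hr6) ?_ (by norm_num)
    refine GTwoTorus.card_le.trans ?_
    rw [h5']
    norm_num

/-! ### The rows -/

/-- **`G₂(q)`, `F₄`, `E₆`, `E₇`, `E₈` over fields of odd order** -/
theorem exceptional {K : Type u} [Group K] (h : KFacts.OddChar @IsExceptionalChevChar K) :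
    (∃ (F : Type) (_ : Field F) (_ : Fintype F), Fintype.card F = 3 ∧ Nonempty (K ≃* ↥(chevG2.group F))) ∨
      NX.{u, v} K := by
  obtain ⟨p, hp, hp2, F, _, _, _, h⟩ := h
  have h2 : (2 : F) ≠ 0 := RowExc.two_ne hp hp2 F
  have : Fact p.Prime := ⟨hp⟩
  rcases h with ⟨hq, ⟨e⟩⟩ | ⟨⟨e⟩⟩ | ⟨⟨e⟩⟩ | ⟨⟨e⟩⟩ | ⟨⟨e⟩⟩
  · obtain ⟨k, hk⟩ := RowGTwo.odd_card (F := F) (p := p) hp2
    by_cases h3 : Fintype.card F = 3
    · exact Or.inl ⟨F, inferInstance, inferInstance, h3, ⟨e⟩⟩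
    · exact Or.inr (gTwo hp2 (by omega) e)
  · exact Or.inr (f4 h2 e.symm)
  · exact Or.inr (e6 h2 e.symm)
  · exact Or.inr (e7 h2 e.symm)
  · exact Or.inr (e8 h2 e.symm)

/-- **`²E₆`, `³D₄` over fields of odd order** -/
theorem twisted {K : Type u} [Group K] (h : KFacts.OddChar @IsTwistedE6D4Char K) : NX.{u, v} K := by
  obtain ⟨p, hp, hp2, F, _, _, _, q, hq, h⟩ := h
  have h2 : (2 : F) ≠ 0 := RowExc.two_ne hp hp2 F
  rcases h with ⟨hF, ⟨e⟩⟩ | ⟨hF, ⟨e⟩⟩
  · exact twE6 hq h2 hF e.symm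
  · exact twD4 hq h2 hF e.symm

end Cfsg.Agent.Omega.ML.ExLow.XExc
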