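import Cfsg.Agent.Omega.ML.ExLow.NumX
import Cfsg.Agent.Omega.ML.RowOm

/-!
# K-list 'exact + low', numerical rows: `PΩ_{2m+1}(q)`, `PΩ⁺_{2m}(q)`, `PΩ⁻_{2m}(q)`, `q` odd (helper297)

`LB = 2 q^(n-4)` (`n` the dimension), `RK = n`, `|S| ≤ q^(dim)`.
-/

set_option autoImplicit false

universe u v w

namespace Cfsg.Agent.Omega.ML.ExLow.XOm

open Cfsg Cfsg.Agent.Omega.TwoF Cfsg.Agent.Omega.Lie Cfsg.Agent.Omega.ML.Num Cfsg.Agent.Omega.ML.ExLow.NumX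
open Cfsg.Agent.LieClassical Cfsg.Agent.LieClassical.OrthCore

/-- the inequality for the bounds `q ^ c` and `2 q ^ (k + 1)` -/
theorem num {q c a k : ℕ} (hq : 3 ≤ q) (ha : 1 ≤ a) (hc : c + 2 * a ≤ 2 * 3 ^ k) :
    c * (q - 1) + a < 2 * q ^ (k + 1) := by
  have h1 : (3 : ℕ) ^ k ≤ q ^ k := Nat.pow_le_pow_left hq k
  have h2 : (c + 2 * a) * q ≤ 2 * q ^ k * q := Nat.mul_le_mul_right _ (by omega)
  have h3 : c * (q - 1) ≤ c * q := Nat.mul_le_mul_left _ (by omega)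
  have h4 : a < 2 * a * q := by nlinarith
  rw [pow_succ]
  nlinarith

theorem num_odd {m q : ℕ} (hm : 3 ≤ m) (hq : 3 ≤ q) :
    m * (2 * m + 1) * (q - 1) + (2 * m + 1) < 2 * q ^ (2 * m - 3) := by
  rcases Nat.lt_or_ge 3 m with h | h
  · obtain ⟨k, rfl⟩ : ∃ k, m = k + 4 := ⟨m - 4, by omega⟩
    have h1 := num (q := q) (c := (k + 4) * (2 * (k + 4) + 1)) (a := 2 * (k + 4) + 1) (k := 2 * k + 4) hq
      (by omega) (by have := RowOm.bd k; nlinarith)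
    rwa [show 2 * (k + 4) - 3 = 2 * k + 4 + 1 by omega]
  · obtain rfl : m = 3 := by omega
    obtain ⟨r, rfl⟩ : ∃ r, q = r + 3 := ⟨q - 3, by omega⟩
    norm_num
    nlinarith [Nat.zero_le (r ^ 3), Nat.zero_le (r ^ 2)]

theorem num_even {m q : ℕ} (hm : 4 ≤ m) (hq : 3 ≤ q) :
    m * (2 * m - 1) * (q - 1) + 2 * m < 2 * q ^ (2 * m - 4) := by
  obtain ⟨k, rfl⟩ : ∃ k, m = k + 4 := ⟨m - 4, by omega⟩
  have h1 := num (q := q) (c := (k + 4) * (2 * (k + 4) - 1)) (a := 2 * (k + 4)) (k := 2 * k + 3) hq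
    (by omega) (by
      have := RowOm.bd' k
      have h2 : 2 * (k + 4) - 1 = 2 * k + 7 := by omega
      rw [h2]
      nlinarith)
  rwa [show 2 * (k + 4) - 4 = 2 * k + 3 + 1 by omega]

/-- transport of the numerical criterion -/
theorem congr {S : Type w} [Group S] {S' : Type u} [Group S'] {n a N : ℕ} (h1 : Heis.LB.{w, u, v} S n)
    (h2 : TwoF.RK S a) (h3 : Nat.card S ≤ 2 ^ N) (h4 : N + a < n) (e : S ≃* S') : NX.{u, v} S' :=
  NX.of_rk (h1.congr e) ((OddExcNum.rk_of_rk h2).of_equiv e) (by rwa [← Nat.card_congr e.toEquiv]) h4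

section

variable {F : Type w} [Field F] [Finite F] {p : ℕ} [Fact p.Prime] [CharP F p]

/-- **`PΩ_{2m+1}(q)`, `q` odd, `m ≥ 3`** -/
theorem odd (hp2 : p ≠ 2) {m : ℕ} (hm : 3 ≤ m) {S : Type u} [Group S]
    (e : Cfsg.POmega F (Cfsg.quadFormOdd m F) ≃* S) : NX.{u, v} S := by
  have h2 : (2 : F) ≠ 0 := OrthEl.two_ne hp2
  have h3 : 3 ≤ Nat.card F := RowOrth.three_le_card Fact.out hp2
  have h1 := RowOm.lb.{u, v} hp2 (OrthForms.oddForm m F) (OrthForms.nondeg_oddForm m F h2) (n := 2 * m + 1)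
    (by rw [Fintype.card_sum, Fintype.card_sum, Fintype.card_fin, Fintype.card_unit]; omega) (by omega)
  rw [show 2 * m + 1 - 4 = 2 * m - 3 by omega, OrthForms.coe_oddForm] at h1
  exact congr h1 (RkPOm.odd hm h2)
    ((RowOm.card_odd hm h2).trans (OddExcNum.pow_le_two_pow Nat.card_pos)) (num_odd hm h3) e

/-- **`PΩ⁺_{2m}(q)`, `q` odd, `m ≥ 4`** -/
theorem plus (hp2 : p ≠ 2) {m : ℕ} (hm : 4 ≤ m) {S : Type u} [Group S]
    (e : Cfsg.POmega F (Cfsg.quadFormPlus m F) ≃* S) : NX.{u, v} S := by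
  have h2 : (2 : F) ≠ 0 := OrthEl.two_ne hp2
  have h3 : 3 ≤ Nat.card F := RowOrth.three_le_card Fact.out hp2
  have h1 := RowOm.lb.{u, v} hp2 (OrthForms.plusForm m F) (OrthForms.nondeg_plusForm m F) (n := 2 * m)
    (by rw [Fintype.card_sum, Fintype.card_fin]; omega) (by omega)
  rw [OrthForms.coe_plusForm] at h1
  exact congr h1 (RkPOm.plus hm h2)
    ((RowOm.card_plus hm).trans (OddExcNum.pow_le_two_pow Nat.card_pos)) (num_even hm h3) e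

/-- **`PΩ⁻_{2m}(q)`, `q` odd, `m ≥ 4`** -/
theorem minus (hp2 : p ≠ 2) {m : ℕ} (hm : 4 ≤ m) (a b : F)
    (hab : ∀ z₁ z₂ : F, z₁ ^ 2 + a * z₁ * z₂ + b * z₂ ^ 2 = 0 → z₁ = 0 ∧ z₂ = 0) {S : Type u} [Group S]
    (e : Cfsg.POmega F (Cfsg.quadFormMinus (m - 1) F a b) ≃* S) : NX.{u, v} S := by
  have h2 : (2 : F) ≠ 0 := OrthEl.two_ne hp2
  have h3 : 3 ≤ Nat.card F := RowOrth.three_le_card Fact.out hp2
  have h1 := RowOm.lb.{u, v} hp2 (OrthForms.minusForm (m - 1) F a b) (OrthForms.nondeg_minusForm (m - 1) F a b hab)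
    (n := 2 * m) (by rw [Fintype.card_sum, Fintype.card_sum, Fintype.card_fin, Fintype.card_fin]; omega) (by omega)
  rw [OrthForms.coe_minusForm] at h1
  exact congr h1 (RkPOm.minus hm h2 a b hab)
    ((RowOm.card_minus hm h2 a b hab).trans (OddExcNum.pow_le_two_pow Nat.card_pos)) (num_even hm h3) e

end

/-! ### The rows -/

/-- **row `PΩ_{2m+1}(q)`, `q` odd** -/
theorem omOdd (K : Type u) [Group K] (h : KFacts.OddChar @Cfsg.IsPOmegaOddChar K) : NX.{u, v} K := by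
  obtain ⟨p, hp, hp2, F, _, _, _, m, hm, -, ⟨e⟩⟩ := h
  have : Fact p.Prime := ⟨hp⟩
  exact odd hp2 hm e.symm

/-- **row `PΩ⁺_{2m}(q)`, `q` odd** -/
theorem omPlus (K : Type u) [Group K] (h : KFacts.OddChar @Cfsg.IsPOmegaPlusChar K) : NX.{u, v} K := by
  obtain ⟨p, hp, hp2, F, _, _, _, m, hm, ⟨e⟩⟩ := h
  have : Fact p.Prime := ⟨hp⟩
  exact plus hp2 hm e.symm

/-- **row `PΩ⁻_{2m}(q)`, `q` odd** -/
theorem omMinus (K : Type u) [Group K] (h : KFacts.OddChar @Cfsg.IsPOmegaMinusChar K) : NX.{u, v} K := by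
  obtain ⟨p, hp, hp2, F, _, _, _, m, a, b, hm, hab, ⟨e⟩⟩ := h
  have : Fact p.Prime := ⟨hp⟩
  exact minus hp2 hm a b hab e.symm

end Cfsg.Agent.Omega.ML.ExLow.XOm
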