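import Cfsg.Agent.Omega.ML.AltPerm

/-!
# 2-subgroups of symmetric groups: two overgroups with `|O₂ ∩ O₂| ≤ 2` (helper461)

For the alternating row of the K-list "exact + low" (`Omega/ML/ExLow/Alt.lean`).

* `exists_tau` : `n` even, `T ≤ S_n` a 2-group: `T` centralises a fixed point free involution;
* `semireg`, `eq_of_three` : 2-groups supported on `Γ`, `|Γ| ≤ 4`, normalised by `AP Γ`;
* **`main`** : `n ≥ 7`, `n ≠ 8`, `T ≤ S_n` a 2-group: there are `R, R' ≥ T`, `A_n ≰ R, R'`, such that `|N ∩ N'| ≤ 2` for all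
  2-subgroups `N ≤ R`, `N' ≤ R'` normalised by `R ∩ A_n`, `R' ∩ A_n`.
-/

set_option autoImplicit false

namespace Cfsg.Agent.Omega.ML.ExLow.AltPermTwo

open Equiv Equiv.Perm Subgroup Cfsg.Agent.Omega.ML.AltPerm

open scoped Nat

/-! ### the fixed point free involution -/

theorem odd_df : ∀ m : ℕ, Odd ((2 * m - 1)‼) := by
  intro m
  induction m with
  | zero => exact ⟨0, rfl⟩
  | succ m ih =>
    rcases Nat.eq_zero_or_pos m with h | h
    · subst h
      exact ⟨0, rfl⟩
    · have h1 : 2 * (m + 1) - 1 = (2 * m - 1) + 2 := by omega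
      rw [h1, Nat.doubleFactorial_add_two]
      exact Odd.mul ⟨m, by omega⟩ ih

theorem odd_card {n m : ℕ} (hn : n = 2 * m) (hm : 1 ≤ m) :
    Odd (Finset.card ({g | g.cycleType = Multiset.replicate m 2} : Finset (Perm (Fin n)))) := by
  have h := card_of_cycleType_mul_eq (Fin n) (Multiset.replicate m 2)
  have hsum : (Multiset.replicate m 2).sum = 2 * m := by
    rw [Multiset.sum_replicate, smul_eq_mul, mul_comm]
  have hprod : (Multiset.replicate m 2).prod = 2 ^ m := by rw [Multiset.prod_replicate]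
  have hto : (Multiset.replicate m 2).toFinset = {2} := by
    rw [Multiset.toFinset_replicate, if_neg (by omega)]
  rw [if_pos ⟨by rw [hsum, Fintype.card_fin, hn], fun a ha => (Multiset.eq_of_mem_replicate ha).ge⟩, hsum, hprod, hto,
    Finset.prod_singleton, Multiset.count_replicate_self, Fintype.card_fin, hn, Nat.sub_self, Nat.factorial_zero,
    one_mul] at h
  have h2 : (2 * m)! = (2 * m - 1)‼ * (2 ^ m * m !) := by
    have h3 := Nat.factorial_eq_mul_doubleFactorial (2 * m - 1)
    have h4 : 2 * m - 1 + 1 = 2 * m := by omega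
    rw [h4, Nat.doubleFactorial_two_mul] at h3
    rw [h3, mul_comm]
  rw [h2] at h
  subst hn
  have h5 := Nat.eq_of_mul_eq_mul_right (by positivity) h
  rw [h5]
  exact odd_df m

/-- A 2-group on an even number of points centralises a fixed point free involution. -/
theorem exists_tau {n m : ℕ} (hn : n = 2 * m) (hm : 1 ≤ m) (T : Subgroup (Perm (Fin n))) (hT : IsPGroup 2 T) :
    ∃ τ : Perm (Fin n), τ * τ = 1 ∧ (∀ x, τ x ≠ x) ∧ ∀ g ∈ T, g * τ = τ * g := by
  classical
  let Ω : Type := {τ : Perm (Fin n) // τ.cycleType = Multiset.replicate m 2}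
  let act : MulAction T Ω :=
    { smul := fun g τ => ⟨(g : Perm (Fin n)) * τ.1 * (g : Perm (Fin n))⁻¹, by rw [cycleType_conj]; exact τ.2⟩
      one_smul := fun τ => Subtype.ext (by
        change ((1 : T) : Perm (Fin n)) * τ.1 * ((1 : T) : Perm (Fin n))⁻¹ = τ.1
        simp)
      mul_smul := fun g h τ => Subtype.ext (by
        change ((g * h : T) : Perm (Fin n)) * τ.1 * ((g * h : T) : Perm (Fin n))⁻¹ =
          (g : Perm (Fin n)) * ((h : Perm (Fin n)) * τ.1 * (h : Perm (Fin n))⁻¹) * (g : Perm (Fin n))⁻¹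
        push_cast
        group) }
  have hodd : ¬ 2 ∣ Nat.card Ω := by
    have h1 : Nat.card Ω = Finset.card ({g | g.cycleType = Multiset.replicate m 2} : Finset (Perm (Fin n))) := by
      rw [Nat.card_eq_fintype_card]
      exact Fintype.card_subtype _
    rw [h1]
    have := odd_card hn hm
    exact fun h => (Nat.not_even_iff_odd.2 this) (even_iff_two_dvd.2 h)
  obtain ⟨τ, hτ⟩ := hT.nonempty_fixed_point_of_prime_not_dvd_card Ω hodd
  have hsq : τ.1 ^ 2 = 1 := by
    rw [← orderOf_dvd_iff_pow_eq_one, ← lcm_cycleType, τ.2]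
    exact Multiset.lcm_dvd.2 fun a ha => (Multiset.eq_of_mem_replicate ha).dvd
  have hsup : τ.1.support = Finset.univ := by
    rw [← Finset.card_eq_iff_eq_univ, ← sum_cycleType, τ.2, Multiset.sum_replicate, smul_eq_mul, Fintype.card_fin, hn,
      mul_comm]
  refine ⟨τ.1, by rw [← pow_two]; exact hsq, fun x => ?_, fun g hg => ?_⟩
  · have h1 : x ∈ τ.1.support := by rw [hsup]; exact Finset.mem_univ x
    exact mem_support.1 h1
  · have h1 := hτ ⟨g, hg⟩
    have h2 : g * τ.1 * g⁻¹ = τ.1 := congrArg Subtype.val h1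
    exact mul_inv_eq_iff_eq_mul.1 h2

/-! ### small supports -/

variable {α : Type*} [DecidableEq α] [Fintype α]

theorem sub_four {Γ : Set α} (h4 : Nat.card Γ ≤ 4) {a b c d : α} (ha : a ∈ Γ) (hb : b ∈ Γ) (hc : c ∈ Γ) (hd : d ∈ Γ)
    (h1 : a ≠ b) (h2 : a ≠ c) (h3 : a ≠ d) (h5 : b ≠ c) (h6 : b ≠ d) (h7 : c ≠ d) {x : α} (hx : x ∈ Γ) :
    x = a ∨ x = b ∨ x = c ∨ x = d := by
  classical
  by_contra hn
  push Not at hn
  obtain ⟨n1, n2, n3, n4⟩ := hn
  have h8 : ({x, a, b, c, d} : Finset α).card = 5 := by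
    rw [Finset.card_insert_of_notMem, Finset.card_insert_of_notMem, Finset.card_insert_of_notMem,
      Finset.card_insert_of_notMem, Finset.card_singleton]
    · simpa using h7
    · simp [h5, h6]
    · simp [h1, h2, h3]
    · simp [n1, n2, n3, n4]
  have h9 : (({x, a, b, c, d} : Finset α) : Set α) ⊆ Γ := by
    intro y hy
    simp only [Finset.coe_insert, Finset.coe_singleton, Set.mem_insert_iff, Set.mem_singleton_iff] at hy
    rcases hy with rfl | rfl | rfl | rfl | rfl <;> assumption
  have h10 := Set.ncard_le_ncard h9 (Set.toFinite Γ)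
  rw [Set.ncard_coe_finset, h8] at h10
  have h11 : Nat.card Γ = Γ.ncard := rfl
  omega

omit [Fintype α] in
theorem conj_swap (s : Perm α) (a b : α) : s * swap a b * s⁻¹ = swap (s a) (s b) := by
  rw [Equiv.mul_swap_eq_swap_mul, mul_inv_cancel_right]

/-- A nontrivial element of a 2-group supported on `Γ`, `|Γ| ≤ 4`, normalised by `AP Γ`, has no fixed point on `Γ`. -/
theorem semireg {Γ : Set α} (h4 : Nat.card Γ ≤ 4) (N : Subgroup (Perm α)) (hN : IsPGroup 2 N)
    (hp : ∀ g ∈ N, ∀ x, x ∉ Γ → g x = x) (hn : ∀ c, AP Γ c → ∀ g ∈ N, c * g * c⁻¹ ∈ N) {g : Perm α} (hg : g ∈ N)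
    (h1 : g ≠ 1) : ∀ x ∈ Γ, g x ≠ x := by
  intro a ha hga
  have hex : ∃ b, g b ≠ b := by
    by_contra hc
    push Not at hc
    exact h1 (Equiv.ext hc)
  obtain ⟨b, hb⟩ := hex
  have hbΓ : b ∈ Γ := by
    by_contra h
    exact hb (hp g hg b h)
  set c := g b with hc
  have hcΓ : c ∈ Γ := by
    by_contra h
    have h2 := hp g hg c h
    exact hb (g.injective h2)
  have hab : a ≠ b := fun h => hb (by rw [hc, ← h, hga])
  have hac : a ≠ c := fun h => by
    have h2 : g a = g b := hga.trans (h.trans hc)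
    exact hab (g.injective h2)
  have hbc : b ≠ c := fun h => hb h.symm
  have hin : ∀ x ∈ Γ, g x ∈ Γ := by
    intro x hx
    by_contra h
    have h2 := g.injective (hp g hg _ h)
    exact h (h2.symm ▸ hx)
  by_cases hcb : g c = b
  · -- `g = (b c)`
    have hfix : ∀ x, x ≠ b → x ≠ c → g x = x := by
      intro x hxb hxc
      by_contra hx
      have hxΓ : x ∈ Γ := by
        by_contra h
        exact hx (hp g hg x h)
      have hxa : x ≠ a := fun h => hx (by rw [h, hga])
      rcases sub_four h4 ha hbΓ hcΓ hxΓ hab hac hxa.symm hbc hxb.symm hxc.symm (hin x hxΓ) with h | h | h | h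
      · exact hxa (g.injective (h.trans hga.symm))
      · exact hxc (g.injective (h.trans hcb.symm))
      · exact hxb (g.injective (h.trans hc))
      · exact hx h
    have hgs : g = swap b c := by
      ext x
      by_cases hxb : x = b
      · rw [hxb, swap_apply_left]
      · by_cases hxc : x = c
        · rw [hxc, swap_apply_right, hcb]
        · rw [swap_apply_of_ne_of_ne hxb hxc, hfix x hxb hxc]
    have hs : AP Γ (C3 a b c) := by
      refine ⟨sign_C3 hab hbc, fun x hx => C3_of_ne ?_ ?_ ?_⟩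
      · rintro rfl; exact hx ha
      · rintro rfl; exact hx hbΓ
      · rintro rfl; exact hx hcΓ
    have h2 := N.mul_mem hg (hn _ hs g hg)
    have h3 : C3 a b c c = a := by
      simp [C3]
    rw [hgs, conj_swap, C3_b hac hbc, h3] at h2
    exact not_two hN (three_C3 hbc hab.symm hac.symm) h2
  · -- a 3-cycle
    set d := g c with hd
    have hdΓ : d ∈ Γ := hin c hcΓ
    have hda : a ≠ d := fun h => hac (g.injective (hga.trans h))
    have hdb : b ≠ d := fun h => hcb h.symm
    have hdc : c ≠ d := fun h => hbc (g.injective h)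
    have hdd : g d = b := by
      rcases sub_four h4 ha hbΓ hcΓ hdΓ hab hac hda hbc hdb hdc (hin d hdΓ) with h | h | h | h
      · exact absurd (g.injective (h.trans hga.symm)) hda.symm
      · exact h
      · exact absurd (g.injective (h.trans hc)) hdb.symm
      · exact absurd (g.injective (h.trans hd)) hdc.symm
    have hgs : g = C3 b c d := by
      ext x
      by_cases hxb : x = b
      · rw [hxb, C3_a hbc hdb]
      · by_cases hxc : x = c
        · rw [hxc, C3_b hdb hdc]
        · by_cases hxd : x = d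
          · rw [hxd, hdd]
            simp [C3]
          · rw [C3_of_ne hxb hxc hxd]
            by_cases hxΓ : x ∈ Γ
            · rcases sub_four h4 ha hbΓ hcΓ hdΓ hab hac hda hbc hdb hdc hxΓ with h | h | h | h
              · rw [h, hga]
              · exact absurd h hxb
              · exact absurd h hxc
              · exact absurd h hxd
            · exact hp g hg x hxΓ
    exact not_two hN (three_C3 hbc hdb hdc) (hgs ▸ hg)

/-- `|Γ| ≤ 3`: at most one nontrivial element. -/
theorem eq_of_three {Γ : Set α} (h3 : Nat.card Γ ≤ 3) (N : Subgroup (Perm α)) (hN : IsPGroup 2 N)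
    (hp : ∀ g ∈ N, ∀ x, x ∉ Γ → g x = x) (hn : ∀ c, AP Γ c → ∀ g ∈ N, c * g * c⁻¹ ∈ N) {g h : Perm α} (hg : g ∈ N)
    (hg1 : g ≠ 1) (hh : h ∈ N) (hh1 : h ≠ 1) : g = h := by
  have hin : ∀ g ∈ N, ∀ x ∈ Γ, g x ∈ Γ := by
    intro g hg x hx
    by_contra h
    have h2 := g.injective (hp g hg _ h)
    exact h (h2.symm ▸ hx)
  have key : ∀ g ∈ N, g ≠ 1 → ∀ x ∈ Γ, ∀ y ∈ Γ, x ≠ y → g x = y := by
    intro g hg hg1 b hb y hy hby
    have hfp := semireg (by omega) N hN hp hn hg hg1
    set c := g b with hc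
    have hbc : b ≠ c := fun h => hfp b hb h.symm
    by_contra hcy
    -- three points
    have hsub : ∀ x ∈ Γ, x = b ∨ x = c ∨ x = y := by
      intro x hx
      by_contra hno
      push Not at hno
      have h8 : ({x, b, c, y} : Finset α).card = 4 := by
        rw [Finset.card_insert_of_notMem, Finset.card_insert_of_notMem, Finset.card_insert_of_notMem,
          Finset.card_singleton]
        · simpa using hcy
        · simp [hbc, hby]
        · simp [hno.1, hno.2.1, hno.2.2]
      have h9 : (({x, b, c, y} : Finset α) : Set α) ⊆ Γ := by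
        intro z hz
        simp only [Finset.coe_insert, Finset.coe_singleton, Set.mem_insert_iff, Set.mem_singleton_iff] at hz
        rcases hz with rfl | rfl | rfl | rfl
        · exact hx
        · exact hb
        · exact hin g hg b hb
        · exact hy
      have h10 := Set.ncard_le_ncard h9 (Set.toFinite Γ)
      rw [Set.ncard_coe_finset, h8] at h10
      have h11 : Nat.card Γ = Γ.ncard := rfl
      omega
    have hcΓ : c ∈ Γ := hin g hg b hb
    have hgc : g c = y := by
      rcases hsub _ (hin g hg c hcΓ) with h | h | h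
      · -- then `y` is fixed
        exfalso
        rcases hsub _ (hin g hg y hy) with h' | h' | h'
        · exact hcy (g.injective (h.trans h'.symm))
        · exact hby (g.injective h').symm
        · exact hfp y hy h'
      · exact absurd h (hfp c hcΓ)
      · exact h
    have hgy : g y = b := by
      rcases hsub _ (hin g hg y hy) with h | h | h
      · exact h
      · exact absurd (g.injective h).symm hby
      · exact absurd h (hfp y hy)
    have hgs : g = C3 b c y := by
      ext x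
      by_cases hxb : x = b
      · rw [hxb, C3_a hbc hby]
      · by_cases hxc : x = c
        · rw [hxc, C3_b hby hcy, hgc]
        · by_cases hxd : x = y
          · rw [hxd, hgy]
            simp [C3]
          · rw [C3_of_ne hxb hxc hxd]
            by_cases hxΓ : x ∈ Γ
            · rcases hsub x hxΓ with h | h | h
              · exact absurd h hxb
              · exact absurd h hxc
              · exact absurd h hxd
            · exact hp g hg x hxΓ
    exact not_two hN (three_C3 hbc hby hcy) (hgs ▸ hg)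
  ext x
  by_cases hx : x ∈ Γ
  · have h1 := semireg (by omega) N hN hp hn hg hg1 x hx
    exact (key h hh hh1 x hx (g x) (hin g hg x hx) (Ne.symm h1)).symm
  · rw [hp g hg x hx, hp h hh x hx]

theorem card_le_two {G : Type*} [Group G] [Finite G] (N : Subgroup G)
    (h : ∀ g ∈ N, ∀ h ∈ N, g ≠ 1 → h ≠ 1 → g = h) : Nat.card N ≤ 2 := by
  have h5 : Nat.card N ≤ Nat.card Prop := by
    refine Nat.card_le_card_of_injective (fun g : N => (g : G) = 1) ?_
    intro x y hxy
    have hxy' : ((x : G) = 1) = ((y : G) = 1) := hxy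
    by_cases hx : (x : G) = 1
    · have hy : (y : G) = 1 := hxy' ▸ hx
      exact Subtype.ext (hx.trans hy.symm)
    · have hy : ¬ (y : G) = 1 := hxy' ▸ hx
      exact Subtype.ext (h _ x.2 _ y.2 hx hy)
  refine h5.trans ?_
  rw [Nat.card_eq_fintype_card, Fintype.card_prop]

/-! ### the centraliser of a fixed point free involution -/

/-- The centraliser of `τ`. -/
def Ce (τ : Perm α) : Subgroup (Perm α) := centralizer {τ}

omit [DecidableEq α] [Fintype α] in
theorem mem_Ce {τ g : Perm α} : g ∈ Ce τ ↔ g * τ = τ * g := by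
  rw [Ce, mem_centralizer_singleton_iff]

theorem ex_Ce {τ : Perm α} (h1 : ∀ x, τ x ≠ x) (hs : τ * τ = 1) {a e : α} (hae : a ≠ e) (hbe : τ a ≠ e) :
    ∃ c : Perm α, sign c = 1 ∧ c ∉ Ce τ := by
  have hab : a ≠ τ a := (h1 a).symm
  refine ⟨C3 a (τ a) e, sign_C3 hab hbe, fun h => ?_⟩
  rw [mem_Ce] at h
  have h2 := congrArg (fun f : Perm α => f a) h
  simp only [Perm.mul_apply] at h2
  rw [C3_b hae hbe, C3_a hab hae] at h2
  have h3 : τ (τ a) = a := by
    rw [← Perm.mul_apply, hs, Perm.one_apply]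
  rw [h3] at h2
  exact hae h2.symm

/-- An element `(a c)(b d)`, `b = τ a`, `d = τ c` lies in no 2-group normalised by the even elements of `C(τ)`. -/
theorem not_mem_of_Ce {τ : Perm α} (h1 : ∀ x, τ x ≠ x) (hs : τ * τ = 1) (N : Subgroup (Perm α)) (hN : IsPGroup 2 N)
    (hn : ∀ c ∈ Ce τ, sign c = 1 → ∀ g ∈ N, c * g * c⁻¹ ∈ N) {a c e : α} (hac : a ≠ c) (hbc : τ a ≠ c)
    (hea : e ≠ a) (heb : e ≠ τ a) (hec : e ≠ c) (hed : e ≠ τ c) : swap a c * swap (τ a) (τ c) ∉ N := by
  intro hg
  have hss : ∀ x, τ (τ x) = x := fun x => by rw [← Perm.mul_apply, hs, Perm.one_apply]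
  have hinj : ∀ {x y}, τ x = τ y → x = y := fun h => τ.injective h
  have had : a ≠ τ c := fun h => hbc (by rw [h, hss])
  have hbd : τ a ≠ τ c := fun h => hac (hinj h)
  have hef : e ≠ τ e := (h1 e).symm
  have haf : a ≠ τ e := fun h => heb (by rw [h, hss])
  have hcf : c ≠ τ e := fun h => hed (by rw [h, hss])
  have hbf : τ a ≠ τ e := fun h => hea (hinj h).symm
  have hdf : τ c ≠ τ e := fun h => hec (hinj h).symm
  have hab : a ≠ τ a := (h1 a).symm
  have hcd : c ≠ τ c := (h1 c).symm
  set s : Perm α := C3 a c e * C3 (τ a) (τ c) (τ e) with hsdef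
  have hconj : τ * C3 a c e * τ⁻¹ = C3 (τ a) (τ c) (τ e) := by
    have : τ * C3 a c e * τ⁻¹ = (τ * swap a c * τ⁻¹) * (τ * swap c e * τ⁻¹) := by
      rw [C3]; group
    rw [this, conj_swap, conj_swap, C3]
  have hconj2 : τ * C3 (τ a) (τ c) (τ e) * τ⁻¹ = C3 a c e := by
    have : τ * C3 (τ a) (τ c) (τ e) * τ⁻¹ = (τ * swap (τ a) (τ c) * τ⁻¹) * (τ * swap (τ c) (τ e) * τ⁻¹) := by
      rw [C3]; group
    rw [this, conj_swap, conj_swap, C3, hss, hss, hss]
  have hdis : Disjoint (C3 a c e) (C3 (τ a) (τ c) (τ e)) := by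
    intro x
    by_cases hxa : x = a
    · right; rw [hxa]; exact C3_of_ne hab had haf
    · by_cases hxc : x = c
      · right; rw [hxc]; exact C3_of_ne (fun h => hbc h.symm) hcd hcf
      · by_cases hxe : x = e
        · right; rw [hxe]; exact C3_of_ne heb hed hef
        · left; exact C3_of_ne hxa hxc hxe
  have hsC : s ∈ Ce τ := by
    rw [mem_Ce]
    have h2 : τ * s * τ⁻¹ = s := by
      have : τ * s * τ⁻¹ = (τ * C3 a c e * τ⁻¹) * (τ * C3 (τ a) (τ c) (τ e) * τ⁻¹) := by
        rw [hsdef]; group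
      rw [this, hconj, hconj2, hsdef]
      exact hdis.commute.symm.eq
    exact (mul_inv_eq_iff_eq_mul.1 h2).symm
  have hsign : sign s = 1 := by
    rw [hsdef, Perm.sign_mul, sign_C3 hac hec.symm, sign_C3 hbd hdf, one_mul]
  have h2 := N.mul_mem hg (hn s hsC hsign _ hg)
  have hsa : s a = c := by
    rw [hsdef, Perm.mul_apply, C3_of_ne hab had haf, C3_a hac hea.symm]
  have hsc : s c = e := by
    rw [hsdef, Perm.mul_apply, C3_of_ne (fun h => hbc h.symm) hcd hcf, C3_b hea.symm hec.symm]
  have hsb : s (τ a) = τ c := by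
    rw [hsdef, Perm.mul_apply, C3_a hbd hbf, C3_of_ne had.symm hcd.symm hed.symm]
  have hsd : s (τ c) = τ e := by
    rw [hsdef, Perm.mul_apply, C3_b hbf hdf, C3_of_ne haf.symm hcf.symm hef.symm]
  have h3 : s * (swap a c * swap (τ a) (τ c)) * s⁻¹ = swap c e * swap (τ c) (τ e) := by
    have : s * (swap a c * swap (τ a) (τ c)) * s⁻¹ = (s * swap a c * s⁻¹) * (s * swap (τ a) (τ c) * s⁻¹) := by group
    rw [this, conj_swap, conj_swap, hsa, hsc, hsb, hsd]
  rw [h3] at h2
  have hcomm : swap (τ a) (τ c) * swap c e = swap c e * swap (τ a) (τ c) := by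
    have : Disjoint (swap (τ a) (τ c)) (swap c e) := by
      intro x
      by_cases hxa : x = τ a
      · right; rw [hxa]; exact swap_apply_of_ne_of_ne hbc heb.symm
      · by_cases hxc : x = τ c
        · right; rw [hxc]; exact swap_apply_of_ne_of_ne hcd.symm hed.symm
        · left; exact swap_apply_of_ne_of_ne hxa hxc
    exact this.commute.eq
  have h4 : swap a c * swap (τ a) (τ c) * (swap c e * swap (τ c) (τ e)) =
      C3 a c e * C3 (τ a) (τ c) (τ e) := by
    rw [C3, C3]
    calc swap a c * swap (τ a) (τ c) * (swap c e * swap (τ c) (τ e))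
        = swap a c * (swap (τ a) (τ c) * swap c e) * swap (τ c) (τ e) := by group
      _ = swap a c * (swap c e * swap (τ a) (τ c)) * swap (τ c) (τ e) := by rw [hcomm]
      _ = _ := by group
  rw [h4] at h2
  -- order three
  have h5 : (C3 a c e * C3 (τ a) (τ c) (τ e)) ^ 3 = 1 := by
    rw [hdis.commute.mul_pow]
    have e1 := (three_C3 hac hea.symm hec.symm).orderOf
    have e2 := (three_C3 hbd hbf hdf).orderOf
    have e3 : C3 a c e ^ 3 = 1 := orderOf_dvd_iff_pow_eq_one.1 e1.dvd
    have e4 : C3 (τ a) (τ c) (τ e) ^ 3 = 1 := orderOf_dvd_iff_pow_eq_one.1 e2.dvd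
    rw [e3, e4, one_mul]
  obtain ⟨k, hk⟩ := hN ⟨_, h2⟩
  have h6 : (C3 a c e * C3 (τ a) (τ c) (τ e)) ^ 2 ^ k = 1 := congrArg Subtype.val hk
  have h7 : C3 a c e * C3 (τ a) (τ c) (τ e) = 1 := by
    have h8 := Nat.Coprime.pow_left k (show Nat.Coprime 2 3 by norm_num)
    have h9 := orderOf_dvd_iff_pow_eq_one.2 h6
    have h10 := orderOf_dvd_iff_pow_eq_one.2 h5
    have h11 := Nat.eq_one_of_dvd_coprimes h8 h9 h10
    exact orderOf_eq_one_iff.1 h11
  have h8 := congrArg (fun f : Perm α => f a) h7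
  simp only [Perm.mul_apply, Perm.one_apply] at h8
  rw [C3_of_ne hab had haf, C3_a hac hea.symm] at h8
  exact hac h8.symm

/-! ### set stabilisers, once more -/

/-- `|Δ| ≥ 5`, `|Δᶜ| ≤ 3`. -/
theorem good_St_two {Δ : Set α} (h5 : 5 ≤ Nat.card Δ) (h3 : Nat.card (Δᶜ : Set α) ≤ 3) (N : Subgroup (Perm α))
    (hN : IsPGroup 2 N) (hS : N ≤ St Δ) (hn : ∀ c ∈ St Δ, sign c = 1 → ∀ g ∈ N, c * g * c⁻¹ ∈ N) :
    Nat.card N ≤ 2 := by
  have h1 := (good_St h5 N hN hS hn).1
  refine card_le_two N fun g hg h hh hg1 hh1 => ?_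
  exact eq_of_three (Γ := Δᶜ) h3 N hN (fun g hg x hx => h1 g hg x (not_not.1 hx))
    (fun c hc => hn c (St_compl (Δ := Δ) ▸ AP_St hc) hc.1) hg hg1 hh hh1

theorem good_St_big {Δ : Set α} (h5 : 5 ≤ Nat.card Δ) (h3 : 5 ≤ Nat.card (Δᶜ : Set α)) (N : Subgroup (Perm α))
    (hN : IsPGroup 2 N) (hS : N ≤ St Δ) (hn : ∀ c ∈ St Δ, sign c = 1 → ∀ g ∈ N, c * g * c⁻¹ ∈ N) :
    Nat.card N ≤ 2 := by
  have h1 := (good_St h5 N hN hS hn).1
  have h2 := (good_St (Δ := Δᶜ) h3 N hN (by rw [St_compl]; exact hS) (by rw [St_compl]; exact hn)).1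
  refine card_le_two N fun g hg h hh hg1 _ => absurd ?_ hg1
  ext x
  by_cases hx : x ∈ Δ
  · exact h1 g hg x hx
  · exact h2 g hg x hx

/-- `|Δᶜ| = 4` and the centraliser of a fixed point free involution. -/
theorem good_St_Ce {Δ : Set α} (h5 : 5 ≤ Nat.card Δ) (h3 : Nat.card (Δᶜ : Set α) = 4) {τ : Perm α}
    (h1 : ∀ x, τ x ≠ x) (hs : τ * τ = 1) (N N' : Subgroup (Perm α)) (hN : IsPGroup 2 N) (hS : N ≤ St Δ)
    (hn : ∀ c ∈ St Δ, sign c = 1 → ∀ g ∈ N, c * g * c⁻¹ ∈ N) (hN' : IsPGroup 2 N') (hS' : N' ≤ Ce τ)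
    (hn' : ∀ c ∈ Ce τ, sign c = 1 → ∀ g ∈ N', c * g * c⁻¹ ∈ N') : Nat.card (N ⊓ N' : Subgroup (Perm α)) ≤ 2 := by
  classical
  have hfix := (good_St h5 N hN hS hn).1
  have hsup : ∀ g ∈ N, ∀ x, x ∉ Δᶜ → g x = x := fun g hg x hx => hfix g hg x (not_not.1 hx)
  have hss : ∀ x, τ (τ x) = x := fun x => by rw [← Perm.mul_apply, hs, Perm.one_apply]
  -- a nontrivial element of the intersection is `τ` on `Δᶜ`
  have key : ∀ g ∈ N ⊓ N', g ≠ 1 → ∀ a ∈ Δᶜ, g a = τ a := by
    intro g hg hg1 a ha
    have hfp := semireg (by omega) N hN hsup (fun c hc => hn c (St_compl (Δ := Δ) ▸ AP_St hc) hc.1) hg.1 hg1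
    by_contra hne
    have hgt : ∀ x, g (τ x) = τ (g x) := fun x => by
      have h2 := mem_Ce.1 (hS' hg.2)
      rw [← Perm.mul_apply, h2, Perm.mul_apply]
    have hin : ∀ x ∈ Δᶜ, g x ∈ Δᶜ := by
      intro x hx
      by_contra h
      have h2 := g.injective (hsup g hg.1 _ h)
      exact h (h2.symm ▸ hx)
    have hac : a ≠ g a := (hfp a ha).symm
    have hbΓ : τ a ∈ Δᶜ := by
      by_contra h
      have h2 := hsup g hg.1 _ h
      rw [hgt] at h2
      exact hac (τ.injective h2).symm
    have hcΓ : g a ∈ Δᶜ := hin a ha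
    have hdΓ : τ (g a) ∈ Δᶜ := by rw [← hgt]; exact hin _ hbΓ
    have hbc : τ a ≠ g a := fun h => hne h.symm
    have hab : a ≠ τ a := (h1 a).symm
    have had : a ≠ τ (g a) := fun h => hbc ((congrArg τ h).trans (hss _))
    have hbd : τ a ≠ τ (g a) := fun h => hac (τ.injective h)
    have hcd : g a ≠ τ (g a) := (h1 _).symm
    have hsub := fun x (hx : x ∈ Δᶜ) =>
      sub_four (Γ := Δᶜ) (by omega) ha hbΓ hcΓ hdΓ hab hac had hbc hbd hcd hx
    -- `g` is an involution
    have hgc : g (g a) = a := by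
      rcases hsub _ (hin _ hcΓ) with h | h | h | h
      · exact h
      · -- a four-cycle: `g² = τ` there
        exfalso
        -- `g²` is nontrivial and equals `τ` at `a`; use that `g` has order at most 2 via the 3-cycle trick
        have hgb : g (τ a) = τ (g a) := hgt a
        have hgd : g (τ (g a)) = a := by rw [hgt, h, hss]
        -- conjugate by the 3-cycle `(a b c)`
        have hs3 : AP Δᶜ (C3 a (τ a) (g a)) := by
          refine ⟨sign_C3 hab hbc, fun x hx => C3_of_ne ?_ ?_ ?_⟩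
          · rintro rfl; exact hx ha
          · rintro rfl; exact hx hbΓ
          · rintro rfl; exact hx hcΓ
        have h2 := hn _ (St_compl (Δ := Δ) ▸ AP_St hs3) hs3.1 g hg.1
        -- `g * g'` fixes a point and is nontrivial
        set s := C3 a (τ a) (g a) with hsd
        have sa : s a = τ a := C3_a hab hac
        have sb : s (τ a) = g a := C3_b hac hbc
        have sc : s (g a) = a := by rw [hsd]; simp [C3]
        have sd : s (τ (g a)) = τ (g a) := C3_of_ne had.symm hbd.symm hcd.symm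
        have inv_eq : ∀ {x y}, s x = y → s⁻¹ y = x := fun h => by rw [← h]; simp
        have h3 := N.mul_mem hg.1 h2
        have h4 : (g * (s * g * s⁻¹)) ≠ 1 := by
          intro h5'
          have h6 := congrArg (fun f : Perm α => f a) h5'
          simp only [Perm.mul_apply, Perm.one_apply] at h6
          rw [inv_eq sc, h, sb, h] at h6
          exact hab h6.symm
        have h5' := semireg (by omega) N hN hsup (fun c hc => hn c (St_compl (Δ := Δ) ▸ AP_St hc) hc.1) h3 h4
        refine h5' (τ (g a)) hdΓ ?_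
        simp only [Perm.mul_apply]
        rw [inv_eq sd, hgd, sa, hgb]
      · exact absurd h (hfp _ hcΓ)
      · -- `g c = d = τ c`, `g b = d`
        exfalso
        have h2 : g (τ a) = g (g a) := (hgt a).trans h.symm
        exact hbc (g.injective h2)
    have hgd : g (τ (g a)) = τ a := by rw [hgt, hgc]
    have hgs : g = swap a (g a) * swap (τ a) (τ (g a)) := by
      ext x
      rw [Perm.mul_apply]
      by_cases hx : x ∈ Δᶜ
      · rcases hsub x hx with h | h | h | h
        · rw [h, swap_apply_of_ne_of_ne hab had, swap_apply_left]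
        · rw [h, swap_apply_left, swap_apply_of_ne_of_ne had.symm hcd.symm, hgt]
        · rw [h, swap_apply_of_ne_of_ne hbc.symm hcd, swap_apply_right, hgc]
        · rw [h, swap_apply_right, swap_apply_of_ne_of_ne hab.symm hbc, hgd]
      · have e1 : x ≠ a := fun h => hx (h ▸ ha)
        have e2 : x ≠ g a := fun h => hx (h ▸ hcΓ)
        have e3 : x ≠ τ a := fun h => hx (h ▸ hbΓ)
        have e4 : x ≠ τ (g a) := fun h => hx (h ▸ hdΓ)
        rw [swap_apply_of_ne_of_ne e3 e4, swap_apply_of_ne_of_ne e1 e2, hsup g hg.1 x hx]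
    have hΔ : Nonempty Δ := (Nat.card_pos_iff.1 (by omega)).1
    obtain ⟨e, he⟩ := hΔ
    have f1 : e ≠ a := fun h => ha (h ▸ he)
    have f2 : e ≠ g a := fun h => hcΓ (h ▸ he)
    have f3 : e ≠ τ a := fun h => hbΓ (h ▸ he)
    have f4 : e ≠ τ (g a) := fun h => hdΓ (h ▸ he)
    exact not_mem_of_Ce h1 hs N' hN' hn' hac hbc f1 f3 f2 f4 (hgs ▸ hg.2)
  refine card_le_two _ fun g hg h hh hg1 hh1 => ?_
  ext x
  by_cases hx : x ∈ Δᶜ
  · rw [key g hg hg1 x hx, key h hh hh1 x hx]
  · rw [hsup g hg.1 x hx, hsup h hh.1 x hx]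

/-! ### the two overgroups -/

/-- `R, R' ≥ T`, `A_n ≰ R, R'`, `|N ∩ N'| ≤ 2`. -/
def Two {n : ℕ} (T : Subgroup (Perm (Fin n))) : Prop :=
  ∃ R R' : Subgroup (Perm (Fin n)), T ≤ R ∧ T ≤ R' ∧ (∃ c, sign c = 1 ∧ c ∉ R) ∧ (∃ c, sign c = 1 ∧ c ∉ R') ∧
    ∀ N N' : Subgroup (Perm (Fin n)), N ≤ R → IsPGroup 2 N → (∀ c ∈ R, sign c = 1 → ∀ g ∈ N, c * g * c⁻¹ ∈ N) →
      N' ≤ R' → IsPGroup 2 N' → (∀ c ∈ R', sign c = 1 → ∀ g ∈ N', c * g * c⁻¹ ∈ N') →
      Nat.card (N ⊓ N' : Subgroup (Perm (Fin n))) ≤ 2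

theorem Two.of_one {n : ℕ} {T R : Subgroup (Perm (Fin n))} (hT : T ≤ R) (hc : ∃ c, sign c = 1 ∧ c ∉ R)
    (h : ∀ N : Subgroup (Perm (Fin n)), N ≤ R → IsPGroup 2 N →
      (∀ c ∈ R, sign c = 1 → ∀ g ∈ N, c * g * c⁻¹ ∈ N) → Nat.card N ≤ 2) : Two T :=
  ⟨R, R, hT, hT, hc, hc, fun N _ hN h2 hn _ _ _ =>
    (Nat.card_le_card_of_injective _ (Subgroup.inclusion_injective (inf_le_left : N ⊓ _ ≤ N))).trans (h N hN h2 hn)⟩

theorem main {n : ℕ} (h7 : 7 ≤ n) (h8 : n ≠ 8) (T : Subgroup (Perm (Fin n))) (hT : IsPGroup 2 T) : Two T := by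
  classical
  have hadd : ∀ Δ : Set (Fin n), Nat.card Δ + Nat.card (Δᶜ : Set (Fin n)) = n := by
    intro Δ
    have h1 := Set.ncard_add_ncard_compl Δ
    rw [Nat.card_eq_fintype_card, Fintype.card_fin] at h1
    exact h1
  rcases Nat.even_or_odd n with he | ho
  · -- even degree, at least 10
    have h10 : 10 ≤ n := by
      rcases he with ⟨k, hk⟩
      omega
    -- a proper invariant set with at least five points is enough
    have key : ∀ Δ : Set (Fin n), 5 ≤ Nat.card Δ → (∃ d, d ∉ Δ) → T ≤ St Δ → Two T := by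
      intro Δ h5 hd hTS
      by_cases h4 : Nat.card (Δᶜ : Set (Fin n)) = 4
      · obtain ⟨m, hm⟩ := he
        obtain ⟨τ, hτ, hfp, hTτ⟩ := exists_tau (by omega : n = 2 * m) (by omega) T hT
        set a : Fin n := ⟨0, by omega⟩ with ha
        obtain ⟨e, he1, he2⟩ : ∃ e : Fin n, a ≠ e ∧ τ a ≠ e := by
          by_contra hc
          push Not at hc
          have h1 : (Finset.univ : Finset (Fin n)) ⊆ {a, τ a} := by
            intro x _
            simp only [Finset.mem_insert, Finset.mem_singleton]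
            by_cases hx : a = x
            · exact Or.inl hx.symm
            · exact Or.inr (hc x hx).symm
          have h2 := (Finset.card_le_card h1).trans Finset.card_le_two
          rw [Finset.card_univ, Fintype.card_fin] at h2
          omega
        refine ⟨St Δ, Ce τ, hTS, fun g hg => mem_Ce.2 (hTτ g hg), ex_St (by omega) hd, ex_Ce hfp hτ he1 he2, ?_⟩
        intro N N' hN h2 hn hN' h2' hn'
        exact good_St_Ce h5 h4 hfp hτ N N' h2 hN hn h2' hN' hn'
      · refine Two.of_one hTS (ex_St (by omega) hd) fun N hN h2 hn => ?_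
        rcases Nat.lt_or_ge (Nat.card (Δᶜ : Set (Fin n))) 4 with h | h
        · exact good_St_two h5 (by omega) N h2 hN hn
        · exact good_St_big h5 (by omega) N h2 hN hn
    have hpos : 0 < n := by omega
    set x₀ : Fin n := ⟨0, hpos⟩ with hx₀
    by_cases htr : ∀ x, ∃ h ∈ T, h x₀ = x
    · -- transitive
      let S : Subgroup T := (MulAction.stabilizer (Perm (Fin n)) x₀).subgroupOf T
      have hSm : ∀ h : T, h ∈ S ↔ (h : Perm (Fin n)) x₀ = x₀ := fun h => by
        rw [Subgroup.mem_subgroupOf, MulAction.mem_stabilizer_iff]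
        rfl
      obtain ⟨t, ht⟩ := (IsPGroup.iff_card (p := 2) (G := T)).1 hT
      obtain ⟨s, hs⟩ := (IsPGroup.iff_card (p := 2) (G := S)).1 (hT.to_subgroup S)
      have hst : s < t := by
        have h1 : Nat.card S ∣ Nat.card T := Subgroup.card_subgroup_dvd_card S
        have h2 : Nat.card S ≤ Nat.card T := Nat.le_of_dvd Nat.card_pos h1
        rw [hs, ht] at h2
        have h3 : s ≤ t := (Nat.pow_le_pow_iff_right (by norm_num)).1 h2
        refine lt_of_le_of_ne h3 fun h => ?_
        have h4 : Nat.card S = Nat.card T := by rw [hs, ht, h]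
        have h5 : S = ⊤ := Subgroup.eq_top_of_card_eq S h4
        obtain ⟨h, hh, hhx⟩ := htr ⟨1, by omega⟩
        have h6 : (⟨h, hh⟩ : T) ∈ S := by rw [h5]; trivial
        rw [hSm] at h6
        have h7 : (⟨1, by omega⟩ : Fin n) = x₀ := hhx.symm.trans h6
        rw [hx₀, Fin.mk.injEq] at h7
        omega
      have hpt : 2 ^ (t - 1) ∣ Nat.card T := by
        rw [ht]; exact Nat.pow_dvd_pow 2 (by omega)
      obtain ⟨M, hM, hSM⟩ := Sylow.exists_subgroup_card_pow_prime_le 2 hpt S hs (by omega)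
      have hMi : M.index = 2 := by
        have h1 := M.card_mul_index
        rw [hM, ht] at h1
        have h2 : 2 ^ t = 2 ^ (t - 1) * 2 := by
          rw [← pow_succ]; congr 1; omega
        rw [h2] at h1
        exact Nat.eq_of_mul_eq_mul_left (by positivity) h1
      let Δ : Set (Fin n) := {x | ∃ m : T, m ∈ M ∧ (m : Perm (Fin n)) x₀ = x}
      have hΔ : ∀ h : T, (h : Perm (Fin n)) x₀ ∈ Δ ↔ h ∈ M := by
        intro h
        constructor
        · rintro ⟨m, hm, hmx⟩
          have h1 : m⁻¹ * h ∈ S := by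
            rw [hSm]
            change ((m : Perm (Fin n))⁻¹ * (h : Perm (Fin n))) x₀ = x₀
            rw [Perm.mul_apply, ← hmx]
            simp
          have h2 := M.mul_mem hm (hSM h1)
          rwa [mul_inv_cancel_left] at h2
        · exact fun hh => ⟨h, hh, rfl⟩
      have hgx : ∀ g : T, ∀ x, (g : Perm (Fin n)) x ∈ Δ ↔ (g ∈ M ↔ x ∈ Δ) := by
        intro g x
        obtain ⟨h, hh, hhx⟩ := htr x
        have h1 : (g : Perm (Fin n)) x = ((g * ⟨h, hh⟩ : T) : Perm (Fin n)) x₀ := by
          rw [← hhx]; rfl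
        have h2 : x = ((⟨h, hh⟩ : T) : Perm (Fin n)) x₀ := hhx.symm
        rw [h1, hΔ, Subgroup.mul_mem_iff_of_index_two hMi]
        conv_rhs => rw [h2, hΔ]
      have hTB : T ≤ Bl Δ := by
        intro g hg
        by_cases hgM : (⟨g, hg⟩ : T) ∈ M
        · refine Or.inl fun x => ?_
          have := hgx ⟨g, hg⟩ x
          simpa [hgM] using this
        · refine Or.inr fun x => ?_
          have := hgx ⟨g, hg⟩ x
          simpa [hgM] using this
      obtain ⟨g, hgM⟩ : ∃ g : T, g ∉ M := by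
        by_contra hc
        push Not at hc
        have h1 : M = ⊤ := Subgroup.eq_top_iff' M |>.2 hc
        rw [h1, Subgroup.index_top] at hMi
        omega
      have hsw : ∀ x, (g : Perm (Fin n)) x ∈ Δ ↔ x ∉ Δ := fun x => by
        have := hgx g x
        simpa [hgM] using this
      have hc1 : Nat.card Δ ≤ Nat.card (Δᶜ : Set (Fin n)) := by
        refine Nat.card_le_card_of_injective (fun x : Δ => (⟨(g : Perm (Fin n)) x, fun h => (hsw _).1 h x.2⟩ :
          (Δᶜ : Set (Fin n)))) ?_
        intro x y hxy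
        exact Subtype.ext ((g : Perm (Fin n)).injective (congrArg Subtype.val hxy))
      have hc2 : Nat.card (Δᶜ : Set (Fin n)) ≤ Nat.card Δ := by
        refine Nat.card_le_card_of_injective (fun x : (Δᶜ : Set (Fin n)) => (⟨(g : Perm (Fin n)) x, (hsw _).2 x.2⟩ :
          Δ)) ?_
        intro x y hxy
        exact Subtype.ext ((g : Perm (Fin n)).injective (congrArg Subtype.val hxy))
      have hsum := hadd Δ
      have h5 : 5 ≤ Nat.card Δ := by omega
      have h5' : 5 ≤ Nat.card (Δᶜ : Set (Fin n)) := by omega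
      have hd : ∃ d, d ∉ Δ := by
        have : Nonempty (Δᶜ : Set (Fin n)) := (Nat.card_pos_iff.1 (by omega)).1
        exact ⟨this.some.1, this.some.2⟩
      exact Two.of_one hTB (ex_Bl (by omega) hd) fun N hN h2 hn => good_Bl h5 h5' N h2 hN hn
    · -- intransitive
      push Not at htr
      obtain ⟨y, hy⟩ := htr
      let Δ : Set (Fin n) := {x | ∃ h ∈ T, h x₀ = x}
      have hyΔ : y ∉ Δ := by
        rintro ⟨h, hh, hhy⟩
        exact hy h hh hhy
      have hTΔ : T ≤ St Δ := by
        intro g hg x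
        constructor
        · rintro ⟨h, hh, hhx⟩
          refine ⟨g⁻¹ * h, T.mul_mem (T.inv_mem hg) hh, ?_⟩
          rw [Perm.mul_apply, hhx]
          simp
        · rintro ⟨h, hh, hhx⟩
          exact ⟨g * h, T.mul_mem hg hh, by rw [Perm.mul_apply, hhx]⟩
      have hsum := hadd Δ
      rcases Nat.lt_or_ge (Nat.card Δ) 5 with h | h
      · refine key Δᶜ (by omega) ⟨x₀, ?_⟩ (by rw [St_compl]; exact hTΔ)
        rw [Set.mem_compl_iff, not_not]
        exact ⟨1, T.one_mem, rfl⟩
      · exact key Δ h ⟨y, hyΔ⟩ hTΔ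
  · -- odd degree: a fixed point
    have h1 := hT.card_modEq_card_fixedPoints (Fin n)
    have h2 : (MulAction.fixedPoints T (Fin n)).Nonempty := by
      rw [← Set.nonempty_coe_sort]
      by_contra hc
      rw [not_nonempty_iff] at hc
      have h3 : Nat.card (MulAction.fixedPoints T (Fin n)) = 0 := Nat.card_of_isEmpty
      have h4 : Nat.card (Fin n) = n := by rw [Nat.card_eq_fintype_card, Fintype.card_fin]
      rw [h3, h4] at h1
      have : n % 2 = 0 := h1
      obtain ⟨k, hk⟩ := ho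
      omega
    obtain ⟨x, hx⟩ := h2
    have hx' : ∀ g ∈ T, g x = x := fun g hg => hx ⟨g, hg⟩
    have hsum := hadd {x}
    have hone : Nat.card ({x} : Set (Fin n)) = 1 := by simp
    have hTS : T ≤ St (({x} : Set (Fin n))ᶜ) := by
      rw [St_compl]
      intro g hg y
      rw [Set.mem_singleton_iff, Set.mem_singleton_iff]
      constructor
      · intro h
        exact g.injective (h.trans (hx' g hg).symm)
      · rintro rfl
        exact hx' g hg
    refine Two.of_one hTS (ex_St (by omega) ⟨x, by simp⟩) fun N hN h2 hn => ?_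
    exact good_St_two (by omega) (by rw [compl_compl, hone]; omega) N h2 hN hn

end Cfsg.Agent.Omega.ML.ExLow.AltPermTwo
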