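import Cfsg.Agent.Omega.ML.Ex.Def
import Cfsg.Agent.Omega.ML.RowsList
import Cfsg.Agent.Omega.ML.AltRow
import Cfsg.Agent.Omega.ML.ExLow.AltPermTwo

/-!
# (EXL), the alternating row (helper461)

* **`over_two`** : `X` almost simple with socle `A_n`, `n ≥ 7`, `n ≠ 8`, `T` a 2-subgroup: there are proper overgroups
  `R, R'` of `T` with `|O₂(R) ∩ O₂(R')| ≤ 2`;
* `card_le_two` : so a low `A` has order at most 2 (no module);
* **`deadX_alt`** : the row `DeadX` of the alternating groups of degree `n ≥ 7`, `n ≠ 8`.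
-/

set_option autoImplicit false

namespace Cfsg.Agent.Omega.ML.ExLow.Alt

open Subgroup Equiv Equiv.Perm Cfsg Cfsg.Agent.ZN Cfsg.Agent.Omega.ML.Rows Cfsg.Agent.Omega.ML.Ex
open Cfsg.Agent.Omega.ML.ExLow
open Cfsg.Agent.MinSimple.VModule (o2_isPGroup o2_le le_normalizer_o2)

universe u v

theorem over_two {X : Type u} [Group X] [Finite X] (S : Subgroup X) [S.Normal]
    (hC : centralizer (S : Set X) = ⊥) {n : ℕ} (h7 : 7 ≤ n) (h8 : n ≠ 8) (e : S ≃* alternatingGroup (Fin n))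
    (T : Subgroup X) (hT : IsPGroup 2 T) : ∃ R R' : Subgroup X, T ≤ R ∧ R ≠ ⊤ ∧ T ≤ R' ∧ R' ≠ ⊤ ∧
      Nat.card (o2 R ⊓ o2 R' : Subgroup X) ≤ 2 := by
  obtain ⟨π, hπ, hS⟩ := AltRow.exists_emb S hC h7 e
  obtain ⟨R₀, R₀', hTR, hTR', ⟨c, hc, hcR⟩, ⟨c', hc', hcR'⟩, hN⟩ :=
    AltPermTwo.main h7 h8 (T.map π) (hT.map π)
  have hex : ∀ c : Perm (Fin n), sign c = 1 → ∃ s, π s = c := by
    intro c hc
    have h1 : c ∈ S.map π := by rw [hS]; exact mem_alternatingGroup.2 hc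
    obtain ⟨s, -, hs⟩ := h1
    exact ⟨s, hs⟩
  have htop : ∀ (R₀ : Subgroup (Perm (Fin n))) (c : Perm (Fin n)), sign c = 1 → c ∉ R₀ → R₀.comap π ≠ ⊤ := by
    intro R₀ c hc hcR h
    obtain ⟨s, hs⟩ := hex c hc
    have h1 : s ∈ R₀.comap π := by rw [h]; trivial
    rw [mem_comap, hs] at h1
    exact hcR h1
  have hnor : ∀ (R₀ : Subgroup (Perm (Fin n))), ∀ c ∈ R₀, sign c = 1 → ∀ g ∈ (o2 (R₀.comap π)).map π,
      c * g * c⁻¹ ∈ (o2 (R₀.comap π)).map π := by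
    rintro R₀ c hcR hc1 _ ⟨g, hg, rfl⟩
    obtain ⟨s, rfl⟩ := hex c hc1
    have h2 : s ∈ R₀.comap π := hcR
    refine ⟨s * g * s⁻¹, ?_, by simp⟩
    exact (mem_normalizer_iff.1 (le_normalizer_o2 _ h2) g).1 hg
  refine ⟨R₀.comap π, R₀'.comap π, Subgroup.map_le_iff_le_comap.1 hTR, htop _ c hc hcR,
    Subgroup.map_le_iff_le_comap.1 hTR', htop _ c' hc' hcR', ?_⟩
  have h1 := hN ((o2 (R₀.comap π)).map π) ((o2 (R₀'.comap π)).map π)
    (Subgroup.map_le_iff_le_comap.2 (o2_le _)) ((o2_isPGroup _).map π) (hnor R₀)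
    (Subgroup.map_le_iff_le_comap.2 (o2_le _)) ((o2_isPGroup _).map π) (hnor R₀')
  rw [← Subgroup.map_inf _ _ _ hπ, card_map_of_injective hπ] at h1
  exact h1

/-- A low subgroup has order at most 2. -/
theorem card_le_two {X : Type u} [Group X] [Finite X] {S T A : Subgroup X} (hS : S.Normal)
    (hC : centralizer (S : Set X) = ⊥) {n : ℕ} (h7 : 7 ≤ n) (h8 : n ≠ 8) (e : S ≃* alternatingGroup (Fin n))
    (hT : IsPGroup 2 T) (low : ∀ R : Subgroup X, T ≤ R → R ≠ ⊤ → A ≤ o2 R) : Nat.card A ≤ 2 := by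
  obtain ⟨R, R', h1, h2, h3, h4, h5⟩ := over_two S hC h7 h8 e T hT
  exact (card_le_of_le (le_inf (low R h1 h2) (low R' h3 h4))).trans h5

/-- **The alternating rows of (EXL), degree `≥ 7`, `≠ 8`.** -/
theorem deadX_alt : DeadX.{u, v} @IsAlt7 := by
  rintro H _ _ M _ _ _ K T A h ⟨n, h7, h8, ⟨e⟩⟩
  have h1 := card_le_two h.norm h.cen h7 h8 e h.two h.low
  have h2 := h.four
  omega

end Cfsg.Agent.Omega.ML.ExLow.Alt
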