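import Cfsg.Agent.Omega.ML.ExLow.NumX
import Cfsg.Agent.Omega.ML.RowPsp
import Cfsg.Agent.Omega.ML.OddPsl

/-!
# K-list 'exact + low', numerical rows: `PSp_2m(q)`, `q` odd, `m ≥ 3`, `(m, q) ≠ (3, 3), (4, 3)` (helper393)

`LB = ord_p(2) q^(m-1)`, `RK = 2m`.
-/

set_option autoImplicit false

universe u v w

namespace Cfsg.Agent.Omega.ML.ExLow.XPsp

open Cfsg Cfsg.Agent.Omega.Lie Cfsg.Agent.Omega.TwoF Cfsg.Agent.Omega.KFacts Cfsg.Agent.Omega.ML.Num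
  Cfsg.Agent.Omega.ML.ExLow.NumX

/-- transport of `NX.of_rk` -/
theorem congr_rk {K : Type u} [Group K] {S : Type w} [Group S] (e : K ≃* S) {n b N : ℕ}
    (h1 : Heis.LB.{w, u, v} S n) (h2 : Rk.RK.{u} S b) (h3 : Nat.card S ≤ 2 ^ N) (h4 : N + b < n) : NX.{u, v} K :=
  NX.of_rk (h1.congr e.symm) (h2.of_equiv e.symm) (by rwa [Nat.card_congr e.toEquiv]) h4

/-! ### numbers -/

/-- `m (2m + 1) h + 2m`, `m = k + 3` -/
def L (h k : ℕ) : ℕ := (k + 3) * (2 * k + 7) * h + (2 * k + 6)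

theorem L_succ (h k : ℕ) : L h (k + 1) ≤ 3 * L h k := by
  unfold L
  have h1 : (k + 1 + 3) * (2 * (k + 1) + 7) ≤ 3 * ((k + 3) * (2 * k + 7)) := by nlinarith
  have h2 := Nat.mul_le_mul_right h h1
  nlinarith

theorem L_step {h k : ℕ} (hh : 2 ≤ h) (h1 : L h k < 2 * (2 * h - 1) ^ (k + 2)) :
    L h (k + 1) < 2 * (2 * h - 1) ^ (k + 1 + 2) := by
  have h2 : (2 * h - 1) ^ (k + 1 + 2) = (2 * h - 1) ^ (k + 2) * (2 * h - 1) := pow_succ _ (k + 2)
  have h3 : (2 * h - 1) ^ (k + 2) * 3 ≤ (2 * h - 1) ^ (k + 2) * (2 * h - 1) := Nat.mul_le_mul_left _ (by omega)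
  have h4 := L_succ h k
  rw [h2]
  omega

/-- `q = 2h - 1 ≤ 2^h`, `m = k + 3` -/
theorem num {h k : ℕ} (hk : 4 ≤ h ∨ (3 ≤ h ∧ 1 ≤ k) ∨ (2 ≤ h ∧ 2 ≤ k)) : L h k < 2 * (2 * h - 1) ^ (k + 2) := by
  rcases hk with hk | ⟨hh, hk⟩ | ⟨hh, hk⟩
  · induction k with
    | zero =>
      obtain ⟨m, rfl⟩ : ∃ m, h = m + 4 := ⟨h - 4, by omega⟩
      have h1 : 2 * (m + 4) - 1 = 2 * m + 7 := by omega
      unfold L
      rw [h1]
      norm_num
      nlinarith [Nat.zero_le (m * m)]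
    | succ k ih => exact L_step (by omega) ih
  · induction k, hk using Nat.le_induction with
    | base =>
      obtain ⟨m, rfl⟩ : ∃ m, h = m + 3 := ⟨h - 3, by omega⟩
      have h1 : 2 * (m + 3) - 1 = 2 * m + 5 := by omega
      unfold L
      rw [h1]
      norm_num
      nlinarith [Nat.zero_le (m * m), Nat.zero_le (m * m * m)]
    | succ k hk ih => exact L_step (by omega) ih
  · induction k, hk using Nat.le_induction with
    | base =>
      obtain ⟨m, rfl⟩ : ∃ m, h = m + 2 := ⟨h - 2, by omega⟩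
      have h1 : 2 * (m + 2) - 1 = 2 * m + 3 := by omega
      unfold L
      rw [h1]
      norm_num
      nlinarith [Nat.zero_le (m * m), Nat.zero_le (m * m * m), Nat.zero_le (m * m * m * m)]
    | succ k hk ih => exact L_step (by omega) ih

section main

variable {F : Type} [Field F] [Fintype F] {p : ℕ} [Fact p.Prime] [CharP F p] {K : Type u} [Group K]

theorem nx_of_equiv (hp2 : p ≠ 2) {m : ℕ} (hm : 3 ≤ m) (h33 : ¬ (m = 3 ∧ Nat.card F = 3))
    (h43 : ¬ (m = 4 ∧ Nat.card F = 3)) (e : K ≃* PSp m F) : NX.{u, v} K := by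
  obtain ⟨k, rfl⟩ : ∃ k, m = k + 3 := ⟨m - 3, by omega⟩
  have h2 : (2 : F) ≠ 0 := RowPsp.two_ne (p := p) hp2
  obtain ⟨h, hh, hq⟩ := OddPsl.ne_of_two h2
  have h3 : RkLin.rk (k + 3 + (k + 3)) + 1 = 2 * k + 6 := by
    rw [RkLin.rk, if_neg (by omega)]
    omega
  have h4 : Rk.RK.{u} (PSp (k + 3) F) (2 * k + 6) := h3 ▸ RowPsp.rk_of_aut (RkPSp.rkAut h2 (by omega))
  have hlb := PspOdd.lb.{0, u, v} (F := F) (p := p) hp2 (m := k + 3) (by omega)
  have hcard : Nat.card (PSp (k + 3) F) ≤ 2 ^ ((k + 3) * (2 * k + 7) * h) := by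
    refine (RowPsp.card_le (F := F) (m := k + 3) (RowPsp.odd_card (p := p) hp2) (by omega)).trans ?_
    rw [← Nat.card_eq_fintype_card, hq, show 2 * (k + 3) + 1 = 2 * k + 7 by ring,
      mul_comm ((k + 3) * (2 * k + 7)) h, pow_mul 2 h]
    exact Nat.pow_le_pow_left (OddPsl.le_two_pow h hh) _
  by_cases h5 : k = 0 ∧ h = 3
  · obtain ⟨rfl, rfl⟩ := h5
    refine congr_rk e hlb h4 hcard ?_
    have hF : Fintype.card F = 5 := by
      rw [← Nat.card_eq_fintype_card]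
      omega
    have hp5 : p = 5 := by
      obtain ⟨n, hp, hn⟩ := FiniteField.card F p
      rw [hF] at hn
      exact (Nat.prime_dvd_prime_iff_eq hp Nat.prime_five).1 (hn ▸ dvd_pow_self p n.pos.ne')
    have h6 := RowPsp.four_le_ord (p := p) hp2 (by omega) (by omega)
    rw [hq]
    norm_num
    omega
  · refine congr_rk e hlb h4 hcard ?_
    have h6 := num (h := h) (k := k) (by omega)
    unfold L at h6
    rw [← hq] at h6
    have h7 : 2 * Nat.card F ^ (k + 2) ≤ orderOf (2 : ZMod p) * Nat.card F ^ (k + 2) :=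
      Nat.mul_le_mul_right _ (RowPsp.two_le_ord hp2)
    exact lt_of_lt_of_le h6 h7

end main

/-- `PSp_4(q)`, `q` odd -/
def IsPSpFourOdd (K : Type u) [Group K] : Prop :=
  ∃ (F : Type) (_ : Field F) (_ : Fintype F), Odd (Fintype.card F) ∧ Nonempty (K ≃* PSp 2 F)

/-- `PSp_6(3)`, `PSp_8(3)` -/
def IsPSpThree (m : ℕ) (K : Type u) [Group K] : Prop :=
  ∃ (F : Type) (_ : Field F) (_ : Fintype F), Fintype.card F = 3 ∧ Nonempty (K ≃* PSp m F)

/-- **`PSp_2m(q)`, `q` odd**: `m = 2`, or `(m, q) = (3, 3), (4, 3)`, or `NX` -/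
theorem psp {K : Type u} [Group K] (h : OddChar @IsPSpChar K) :
    IsPSpFourOdd K ∨ IsPSpThree 3 K ∨ IsPSpThree 4 K ∨ NX.{u, v} K := by
  obtain ⟨p, hp, hp2, F, _, _, _, m, hm, -, ⟨e⟩⟩ := h
  have : Fact p.Prime := ⟨hp⟩
  rcases Nat.lt_or_ge m 3 with h5 | h5
  · obtain rfl : m = 2 := by omega
    exact Or.inl ⟨F, _, _, RowPsp.odd_card (p := p) hp2, ⟨e⟩⟩
  by_cases h33 : m = 3 ∧ Nat.card F = 3
  · obtain ⟨rfl, hF⟩ := h33
    exact Or.inr (Or.inl ⟨F, _, _, by rw [← hF, Nat.card_eq_fintype_card], ⟨e⟩⟩)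
  by_cases h43 : m = 4 ∧ Nat.card F = 3
  · obtain ⟨rfl, hF⟩ := h43
    exact Or.inr (Or.inr (Or.inl ⟨F, _, _, by rw [← hF, Nat.card_eq_fintype_card], ⟨e⟩⟩))
  · exact Or.inr (Or.inr (Or.inr (nx_of_equiv (p := p) hp2 h5 h33 h43 e)))

end Cfsg.Agent.Omega.ML.ExLow.XPsp
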